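import Cfsg.Agent.Lib.Walter.Basic
import Cfsg.Agent.Lib.GWDihedral.OverFree
import Cfsg.Agent.Lib.Fusion.Transfer
import Cfsg.Agent.Lib.Coprime.Action
import Cfsg.Agent.Lib.OddOrder.PStable
import Mathlib.GroupTheory.Abelianization.Defs

/-!
# No field automorphisms: common tools

An involution `t` acting on a subgroup of odd order, Glauberman's factorisation for an invariant Sylow
subgroup, and the focal subgroup argument at the end of a climb (`tools/NOTES_WALTER.md`, section 10).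
-/

set_option autoImplicit false
set_option linter.unusedSectionVars false
set_option linter.style.haveILetI false

universe u

namespace CfsgLib.Walter

open Subgroup
open scoped commutatorElement

variable {G : Type u} [Group G] [Finite G]

/-- A coset stable under an involution has a fixed element. -/
theorem exists_fixed_mul {t : G} (ht : t * t = 1) {J : Subgroup G} (hJ : Odd (Nat.card J))
    (htJ : t ∈ normalizer (J : Set G)) {g : G} (hg : ⁅t, g⁆ ∈ J) :
    ∃ j ∈ J, Commute t (j * g) := by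
  have htinv : t⁻¹ = t := inv_eq_of_mul_eq_one_right ht
  have hz : ∀ b ∈ zpowers t, b = 1 ∨ b = t := by
    intro b hb
    obtain ⟨i, rfl⟩ := mem_zpowers_iff.1 hb
    rcases Int.even_or_odd i with ⟨k, rfl⟩ | ⟨k, rfl⟩
    · left; rw [← two_mul, zpow_mul, zpow_two, ht, one_zpow]
    · right; rw [zpow_add, zpow_mul, zpow_two, ht, one_zpow, one_mul, zpow_one]
  obtain ⟨j, hj, hc⟩ := Coprime.exists_mul_mem_centralizer (A := zpowers t) (N := J) (k := g)
    (zpowers_le.2 htJ) (by
      rw [Nat.card_zpowers]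
      exact Nat.Coprime.coprime_dvd_left (orderOf_dvd_of_pow_eq_one (pow_two t ▸ ht))
        (Nat.coprime_two_left.2 hJ))
    (Or.inl (Coprime.isSolvable_zpowers t)) fun b hb => by
      rcases hz b hb with rfl | rfl
      · rw [commutatorElement_one_left]; exact one_mem _
      · exact hg
  exact ⟨j, hj, mem_centralizer_iff.1 hc t (mem_zpowers t)⟩

/-- A fixed element of `J M` lies in `M` if `t` fixes nothing in `J`. -/
theorem mem_of_fixed_mul {t : G} (ht : t * t = 1) {J M : Subgroup G} (hJ : Odd (Nat.card J))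
    (htJ : t ∈ normalizer (J : Set G)) (htM : t ∈ normalizer (M : Set G))
    (hfix : ∀ j ∈ J, Commute t j → j = 1) {j m : G} (hj : j ∈ J) (hm : m ∈ M)
    (hc : Commute t (j * m)) : j * m ∈ M := by
  have h1 : (t * j * t⁻¹)⁻¹ * j = ⁅t, m⁆ := by
    rw [commutatorElement_def]
    calc (t * j * t⁻¹)⁻¹ * j = t * j⁻¹ * t⁻¹ * (j * m) * m⁻¹ := by group
      _ = t * j⁻¹ * t⁻¹ * (t * (j * m) * t⁻¹) * m⁻¹ := by rw [hc.eq, mul_inv_cancel_right]
      _ = t * m * t⁻¹ * m⁻¹ := by group
  have h2 : ⁅t, m⁆ ∈ J ⊓ M := by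
    refine mem_inf.2 ⟨h1 ▸ mul_mem (inv_mem ((mem_normalizer_iff.1 htJ j).1 hj)) hj, ?_⟩
    rw [commutatorElement_def]
    exact mul_mem ((mem_normalizer_iff.1 htM m).1 hm) (inv_mem hm)
  have htD : t ∈ normalizer ((J ⊓ M : Subgroup G) : Set G) := mem_normalizer_fintype fun y hy =>
    ⟨(mem_normalizer_iff.1 htJ y).1 hy.1, (mem_normalizer_iff.1 htM y).1 hy.2⟩
  obtain ⟨d, hd, hdc⟩ := exists_fixed_mul ht (hJ.of_dvd_nat (card_dvd_of_le inf_le_left)) htD h2
  have h3 : j * d⁻¹ = 1 := hfix _ (mul_mem hj (inv_mem hd.1)) (by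
    rw [show j * d⁻¹ = j * m * (d * m)⁻¹ by group]
    exact hc.mul_right hdc.inv_right)
  rw [mul_inv_eq_one.1 h3]
  exact mul_mem hd.2 hm

/-- An element normalising `M` that moves `h` modulo `M` is not a commutator in a group permuting
the powers of `h` modulo `M`. -/
theorem not_mem_commutator_of_moves {N M : Subgroup G} {h f : G}
    (hNM : N ≤ normalizer (M : Set G)) (hhM : h ∈ normalizer (M : Set G))
    (hN : ∀ n ∈ N, ∃ k : ℤ, n * h * n⁻¹ * (h ^ k)⁻¹ ∈ M) (hf : ⁅f, h⁆ ∉ M) : f ∉ ⁅N, N⁆ := by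
  intro hfm
  apply hf
  set X := normalizer (M : Set G) with hX
  haveI : (M.subgroupOf X).Normal :=
    (normal_subgroupOf_iff_le_normalizer le_normalizer).2 le_rfl
  set π := QuotientGroup.mk' (M.subgroupOf X)
  set x := π ⟨h, hhM⟩ with hx
  have hpow : ∀ n, ∀ hn : n ∈ N, ∃ k : ℤ, π ⟨n, hNM hn⟩ * x * (π ⟨n, hNM hn⟩)⁻¹ = x ^ k := by
    intro n hn
    obtain ⟨k, hk⟩ := hN n hn
    refine ⟨k, mul_inv_eq_one.1 ?_⟩
    rw [hx, ← map_zpow, ← map_inv, ← map_mul, ← map_mul, ← map_inv, ← map_mul]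
    exact (QuotientGroup.eq_one_iff _).2 (mem_subgroupOf.2 (by simpa using hk))
  let K : Subgroup G := ((centralizer ({x} : Set _)).comap π).map X.subtype
  have hle : ⁅N, N⁆ ≤ K := by
    refine commutator_le.2 fun a ha b hb => ⟨⁅(⟨a, hNM ha⟩ : X), (⟨b, hNM hb⟩ : X)⁆, ?_, by
      rw [map_commutatorElement]; rfl⟩
    refine mem_centralizer_singleton_iff.2 ?_
    rw [map_commutatorElement]
    obtain ⟨i, hi⟩ := hpow a ha
    obtain ⟨j, hj⟩ := hpow b hb
    set c := π ⟨a, hNM ha⟩
    set e := π ⟨b, hNM hb⟩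
    have h1 : c * e * x * (c * e)⁻¹ = x ^ (i * j) := by
      calc c * e * x * (c * e)⁻¹ = c * (e * x * e⁻¹) * c⁻¹ := by group
        _ = c * x ^ j * c⁻¹ := by rw [hj]
        _ = x ^ (i * j) := by rw [← conj_zpow, hi, ← zpow_mul]
    have h2 : e * c * x * (e * c)⁻¹ = x ^ (i * j) := by
      calc e * c * x * (e * c)⁻¹ = e * (c * x * c⁻¹) * e⁻¹ := by group
        _ = e * x ^ i * e⁻¹ := by rw [hi]
        _ = x ^ (i * j) := by rw [← conj_zpow, hj, ← zpow_mul, mul_comm]
    have h3 : ⁅c, e⁆ * (e * c * x * (e * c)⁻¹) * ⁅c, e⁆⁻¹ = c * e * x * (c * e)⁻¹ := by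
      rw [commutatorElement_def]; group
    rw [h1, h2] at h3
    have h4 : ⁅c, e⁆ * x * ⁅c, e⁆⁻¹ = x := by
      have hg : x ∈ zpowers (x ^ (i * j)) := by
        have heq : zpowers (x ^ (i * j)) = zpowers x :=
          eq_of_le_of_card_ge (zpowers_le.2 (zpow_mem (mem_zpowers x) _)) (by
            rw [Nat.card_zpowers, Nat.card_zpowers, ← h2, Involution.Dihedral.orderOf_conj])
        rw [heq]; exact mem_zpowers x
      obtain ⟨m, hm⟩ := mem_zpowers_iff.1 hg
      rw [← hm, ← conj_zpow, h3]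
    exact (mul_inv_eq_iff_eq_mul.1 h4)
  obtain ⟨⟨f', hf'⟩, hc, rfl⟩ := hle hfm
  have h5 := mem_centralizer_singleton_iff.1 (mem_comap.1 hc)
  have h6 : π ⁅(⟨f', hf'⟩ : X), ⟨h, hhM⟩⁆ = 1 := by
    rw [map_commutatorElement, commutatorElement_eq_one_iff_mul_comm]
    exact h5
  have h7 := mem_subgroupOf.1 ((QuotientGroup.eq_one_iff _).1 h6)
  simpa [commutatorElement_def] using h7

/-- An element of the index-two part centralised by `t` that is no commutator there is none in the
whole group. -/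
theorem not_mem_commutator_of_index_two {N O : Subgroup G} {t : G} (ht : t * t = 1)
    (htO : t ∈ normalizer (O : Set G)) (htn : t ∉ O) (hN : ∀ n ∈ N, n ∈ O ∨ n * t ∈ O)
    {f : G} (hfO : f ∈ O) (hft : Commute t f) (hodd : Odd (orderOf f)) (hf : f ∉ ⁅O, O⁆) :
    f ∉ ⁅N, N⁆ := by
  classical
  have hcj : ∀ o, o ∈ O → t * o * t ∈ O := fun o ho => by
    have := (mem_normalizer_iff.1 htO o).1 ho
    rwa [inv_eq_of_mul_eq_one_right ht] at this
  let ψ : O →* Abelianization O := Abelianization.of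
  let χ : O → Abelianization O := fun o => ψ o * ψ ⟨t * o * t, hcj o o.2⟩
  have hχm : ∀ a b : O, χ (a * b) = χ a * χ b := fun a b => by
    have e : (⟨t * ((a * b : O) : G) * t, hcj _ (a * b).2⟩ : O) =
        ⟨t * a * t, hcj a a.2⟩ * ⟨t * b * t, hcj b b.2⟩ := Subtype.ext (by
      show t * (a * b) * t = t * a * t * (t * b * t)
      calc t * (a * b) * t = t * a * 1 * b * t := by group
        _ = t * a * t * (t * b * t) := by rw [← ht]; group)
    show ψ (a * b) * ψ _ = _
    rw [e, map_mul, map_mul, mul_mul_mul_comm]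
  have hχt : ∀ a : O, χ ⟨t * a * t, hcj a a.2⟩ = χ a := fun a => by
    show ψ _ * ψ _ = ψ _ * ψ _
    rw [mul_comm]
    congr 1
    exact congrArg ψ (Subtype.ext (by
      show t * (t * a * t) * t = a
      calc t * (t * a * t) * t = t * t * a * (t * t) := by group
        _ = a := by rw [ht, one_mul, mul_one]))
  let μ : N → O := fun n => if h : (n : G) ∈ O then ⟨n, h⟩ else
    ⟨n * t, (hN n n.2).resolve_left h⟩
  have hcoset : ∀ {x : G}, x ∈ O → x * t ∉ O := fun {x} hx h => htn (by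
    have := mul_mem (inv_mem hx) h
    rwa [inv_mul_cancel_left] at this)
  have hμ : ∀ (n : N) (o : O), ((n : G) = o → μ n = o) ∧ ((n : G) = o * t → μ n = o) := by
    refine fun n o => ⟨fun e => ?_, fun e => ?_⟩
    · simp only [μ, dif_pos (e ▸ o.2 : (n : G) ∈ O)]
      exact Subtype.ext e
    · simp only [μ, dif_neg (e ▸ hcoset o.2 : (n : G) ∉ O)]
      exact Subtype.ext (show (n : G) * t = o by simp only [e, mul_assoc, ht, mul_one])
  have hdec : ∀ n : N, (n : G) = μ n ∨ (n : G) = μ n * t := fun n => by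
    by_cases h : (n : G) ∈ O
    · left; simp only [μ, dif_pos h]
    · right; simp only [μ, dif_neg h]; rw [mul_assoc, ht, mul_one]
  let Ψ : N →* Abelianization O := MonoidHom.mk' (fun n => χ (μ n)) fun a b => by
    have hab : ((a * b : N) : G) = (a : G) * b := rfl
    rcases hdec a with ha | ha <;> rcases hdec b with hb | hb
    · rw [(hμ (a * b) (μ a * μ b)).1 (by rw [hab, ha, hb]; rfl), hχm]
    · rw [(hμ (a * b) (μ a * μ b)).2 (by rw [hab, ha, hb, ← mul_assoc]; rfl), hχm]
    · rw [(hμ (a * b) (μ a * ⟨t * μ b * t, hcj _ (μ b).2⟩)).2 (by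
          rw [hab, ha, hb]
          show _ = (μ a : G) * (t * μ b * t) * t
          calc (μ a : G) * t * μ b = μ a * t * μ b * (t * t) := by rw [ht, mul_one]
            _ = _ := by group), hχm, hχt]
    · rw [(hμ (a * b) (μ a * ⟨t * μ b * t, hcj _ (μ b).2⟩)).1 (by
          rw [hab, ha, hb]
          show _ = (μ a : G) * (t * μ b * t)
          group), hχm, hχt]
  intro hfm
  have hmap : (⁅(⊤ : Subgroup N), (⊤ : Subgroup N)⁆ : Subgroup N).map N.subtype = ⁅N, N⁆ := by
    rw [map_commutator, ← MonoidHom.range_eq_map, range_subtype]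
  obtain ⟨n, hn, rfl⟩ := hmap.ge hfm
  change Commute t (n : G) at hft
  change Odd (orderOf (n : G)) at hodd
  have h1 : Ψ n = 1 := MonoidHom.mem_ker.1 ((commutator_le.2 fun a _ b _ => MonoidHom.mem_ker.2 (by
    rw [map_commutatorElement, commutatorElement_eq_one_iff_mul_comm, mul_comm])) hn)
  have h2 : ψ ⟨n, hfO⟩ ^ 2 = 1 := by
    rw [← h1]
    show _ = χ (μ n)
    rw [(hμ n ⟨n, hfO⟩).1 rfl, pow_two]
    show _ = ψ _ * ψ _
    congr 1
    exact congrArg ψ (Subtype.ext (by
      show (n : G) = t * n * t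
      rw [hft.eq, mul_assoc, ht, mul_one]))
  have h3 : orderOf (ψ ⟨n, hfO⟩) = 1 := Nat.eq_one_of_dvd_coprimes
    (Nat.coprime_two_left.2 hodd) (orderOf_dvd_of_pow_eq_one h2)
    ((orderOf_map_dvd ψ _).trans (Subgroup.orderOf_coe _).symm.dvd)
  apply hf
  have h4 : (⟨n, hfO⟩ : O) ∈ _root_.commutator O := by
    rw [← QuotientGroup.eq_one_iff]; exact orderOf_eq_one_iff.1 h3
  have h5 := mem_map_of_mem O.subtype h4
  rwa [_root_.commutator_def, map_commutator, ← MonoidHom.range_eq_map, range_subtype] at h5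

/-- With an elementary abelian Sylow 2-subgroup there is no section `SL(2, p)`. -/
theorem Setting.not_hasSL2Section {S : Subgroup G} (hS : Setting G S) {p : ℕ} [Fact p.Prime]
    (hp : p ≠ 2) : ¬ Fusion.SL2Sections.HasSL2Section p G := by
  rintro ⟨L, f, hf⟩
  haveI : Fact (Nat.Prime 2) := ⟨Nat.prime_two⟩
  have h2 : (2 : ZMod p) ≠ 0 := fun h => hp ((Nat.prime_dvd_prime_iff_eq Fact.out Nat.prime_two).1
    ((CharP.cast_eq_zero_iff (ZMod p) p 2).1 (by exact_mod_cast h)))
  let f' : L →* (⊤ : Subgroup (Matrix.SpecialLinearGroup (Fin 2) (ZMod p))) :=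
    Subgroup.topEquiv.symm.toMonoidHom.comp f
  have hf' : Function.Surjective f' := Subgroup.topEquiv.symm.surjective.comp hf
  obtain ⟨T⟩ : Nonempty (Sylow 2 L) := inferInstance
  refine Classical.SL2Quaternion.sylow_not_cyclic h2 (GWDihedral.hasPair_top p)
    (T.mapSurjective hf') ?_
  rw [Sylow.coe_mapSurjective]
  obtain ⟨P, hP⟩ := hS.sylow
  obtain ⟨Q, hQ⟩ := (T.2.map L.subtype).exists_le_sylow
  obtain ⟨g, rfl⟩ := MulAction.exists_smul_eq G P Q
  have hexp : ∀ z ∈ (T : Subgroup L).map f', z * z = 1 := by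
    rintro _ ⟨w, hw, rfl⟩
    obtain ⟨s, hs, he⟩ := hQ ⟨w, hw, rfl⟩
    have h1 : (w : G) * w = 1 := by
      have he' : g * s * g⁻¹ = (w : G) := he
      rw [← he', show g * s * g⁻¹ * (g * s * g⁻¹) = g * (s * s) * g⁻¹ by group,
        hS.mul_self (hP ▸ hs), mul_one, mul_inv_cancel]
    rw [← map_mul, show w * w = 1 from Subtype.ext h1, map_one]
  let ι : ↥((T : Subgroup L).map f') →* ↥(zpowers (-1 : Matrix.SpecialLinearGroup (Fin 2) (ZMod p))) :=
    ((⊤ : Subgroup _).subtype.comp ((T : Subgroup L).map f').subtype).codRestrict _ (by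
      rintro ⟨z, hz⟩
      by_cases h1 : (z : Matrix.SpecialLinearGroup (Fin 2) (ZMod p)) = 1
      · exact ⟨0, by simpa using h1.symm⟩
      · have e := CfsgLib.Classical.sl2_involution h2 _ h1 (congrArg Subtype.val (hexp z hz))
        exact ⟨1, Subtype.ext (by simpa using e.symm)⟩)
  exact isCyclic_of_injective ι fun a b e => Subtype.ext (Subtype.ext (congrArg Subtype.val e :))

theorem Setting.not_hasQdSection {S : Subgroup G} (hS : Setting G S) {p : ℕ} [Fact p.Prime]
    (hp : p ≠ 2) : ¬ Fusion.QdSections.HasQdSection p G :=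
  fun h => hS.not_hasSL2Section hp (Fusion.ZJFusion.hasSL2Section_of_hasQdSection h)

/-- A group of odd order has no section `SL(2, p)`. -/
theorem not_hasSL2Section_of_odd {X : Type u} [Group X] [Finite X] (hX : Odd (Nat.card X)) {p : ℕ}
    [Fact p.Prime] (hp : p ≠ 2) : ¬ Fusion.SL2Sections.HasSL2Section p X := by
  rintro ⟨L, f, hf⟩
  have h2 : (2 : ZMod p) ≠ 0 := fun h => hp ((Nat.prime_dvd_prime_iff_eq Fact.out Nat.prime_two).1
    ((CharP.cast_eq_zero_iff (ZMod p) p 2).1 (by exact_mod_cast h)))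
  obtain ⟨x, hx⟩ := hf (-1)
  have h3 : orderOf (f x) = 1 := Nat.eq_one_of_dvd_coprimes (Nat.coprime_two_left.2 hX)
    (orderOf_dvd_of_pow_eq_one (by rw [hx, neg_one_sq]))
    (((orderOf_map_dvd f x).trans (Subgroup.orderOf_coe x).symm.dvd).trans (orderOf_dvd_natCard _))
  rw [orderOf_eq_one_iff, hx] at h3
  have h4 := congrArg (fun m : Matrix.SpecialLinearGroup (Fin 2) (ZMod p) => m.1 0 0) h3
  simp at h4
  exact h2 (by linear_combination -h4)

/-- A fixed part of an odd subgroup normalises `Z(J(P))`, `P` an invariant Sylow subgroup, if `t`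
fixes nothing in the `r`-free core. -/
theorem fixed_le_normalizer_zj {r : ℕ} [Fact r.Prime] (hr : r ≠ 2) {t : G} (ht : t * t = 1)
    {O : Subgroup G} (hO : Odd (Nat.card O)) (htO : t ∈ normalizer (O : Set G)) (P : Sylow r O)
    (htP : t ∈ normalizer (((P : Subgroup O).map O.subtype : Subgroup G) : Set G))
    (hfix : ∀ j ∈ (Cfsg.pPrimeCore r O).map O.subtype, Commute t j → j = 1) {x : G} (hx : x ∈ O)
    (hxt : Commute t x) :
    x ∈ normalizer (Cfsg.centerThompsonOf r ((P : Subgroup O).map O.subtype) : Set G) := by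
  haveI : Group.IsSolvable O := Cfsg.Agent.S0205.result hO
  obtain ⟨o, ho, m, hm, he⟩ := GWDihedral.zj_factor_top hr (not_hasSL2Section_of_odd hO hr)
    (Fusion.PSolvable.isPConstrained Fusion.PSolvable.psolvable_of_solvable) P ⟨x, hx⟩
  have hx' : x = o * m := congrArg Subtype.val he
  have hmN : (m : G) ∈ normalizer (Cfsg.centerThompsonOf r ((P : Subgroup O).map O.subtype) : Set G) := by
    rw [GWDihedral.zj_map hr O.subtype O.subtype_injective]
    exact le_normalizer_map O.subtype ⟨m, hm, rfl⟩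
  have htJ : t ∈ normalizer (((Cfsg.pPrimeCore r O).map O.subtype : Subgroup G) : Set G) := by
    sorry
  have htM := GWDihedral.normalizer_le_normalizer_zjOf hr _ htP
  rw [hx'] at hxt ⊢
  exact mem_of_fixed_mul ht (by
      rw [Coprime.card_map_subtype]
      exact hO.of_dvd_nat (card_subgroup_dvd_card _)) htJ
    (le_normalizer htM) hfix ⟨o, ho, rfl⟩ hmN hxt

/-- The focal subgroup argument. -/
theorem commutator_ne_top {S : Subgroup G} (hS : Setting G S) {r : ℕ} [Fact r.Prime] (hr : r ≠ 2)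
    (P : Sylow r G) {N : Subgroup G}
    (hN : N = normalizer (Cfsg.centerThompsonOf r (P : Subgroup G) : Set G)) {f : G}
    (hfP : f ∈ (P : Subgroup G)) (hf : f ∉ ⁅N, N⁆) : _root_.commutator G ≠ ⊤ := by
  intro htop
  have hPN : (P : Subgroup G) ≤ N :=
    hN ▸ le_normalizer.trans (GWDihedral.normalizer_le_normalizer_zjOf hr _)
  have hc : Fusion.Transfer.Controls (P : Subgroup G) N := fun x hx g hg => by
    obtain ⟨n, hn, he⟩ := Fusion.ZJFusion.controls hr (hS.not_hasQdSection hr) P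
      (A := {x}) (Set.singleton_subset_iff.2 hx) (g := g) (by rw [Set.image_singleton]; exact Set.singleton_subset_iff.2 hg)
    exact ⟨n, hN ▸ hn, he x rfl⟩
  have h := Fusion.Transfer.commutator_inf_eq_of_controls P hPN hc
  rw [htop, top_inf_eq] at h
  exact hf (h.le hfP).1

end CfsgLib.Walter
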