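import Cfsg.Agent.Lib.GWDihedral.LTwoField

/-!
# Field automorphisms of `PSL(2,q)` of odd order and their fixed points

A group over the inner automorphisms containing no outer diagonal one contains the standard field
automorphism with each of its field parts of odd order; the inner automorphisms fixed by a standard
field automorphism of odd order are the `PSL(2,q₀)` of the fixed field.
-/

set_option autoImplicit false
set_option linter.unusedSectionVars false
set_option linter.style.haveILetI false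

namespace CfsgLib.Walter.Field

open Matrix
open CfsgLib.GWDihedral.LTwoAut
open CfsgLib.KnownC.AutPSL

variable {F : Type} [Field F] [Fintype F]

local notation "PSL" => Matrix.ProjectiveSpecialLinearGroup (Fin 2) F

instance inn_normal : (inn : Subgroup (MulAut PSL)).Normal :=
  ⟨by
    rintro _ ⟨g, rfl⟩ α
    refine ⟨α g, MulEquiv.ext fun x => ?_⟩
    simp [MulAut.mul_apply]⟩

/-- A group over `inn` with field part `σ` of odd order contains the standard `σ`, unless it
contains an outer diagonal automorphism. -/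
theorem std_mem (hodd : Odd (Fintype.card F)) {Y : Subgroup (MulAut PSL)}
    (hY : (inn : Subgroup (MulAut PSL)) ≤ Y)
    (hp : ∀ x ∈ Y, fieldHom x = 1 → x ∈ (inn : Subgroup (MulAut PSL))) {α : MulAut PSL}
    (hα : α ∈ Y) (ho : Odd (orderOf (fieldHom α))) :
    semiAut (1 : GL (Fin 2) F) (fieldHom α) ∈ Y := by
  obtain ⟨A, σ, rfl⟩ := exists_semi' α
  rw [fieldHom_semi] at ho ⊢
  have hsplit : semiAut A σ = sa A * semiAut 1 σ := (std_conj A σ).1.symm
  by_cases hA : sa A ∈ (inn : Subgroup (MulAut PSL))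
  · have h := mul_mem (inv_mem (hY hA)) hα
    rwa [hsplit, inv_mul_cancel_left] at h
  exfalso
  set π := QuotientGroup.mk' (inn : Subgroup (MulAut PSL)) with hπ
  have hne : ∀ B : GL (Fin 2) F, sa B ∉ (inn : Subgroup (MulAut PSL)) → π (sa B) = π (sa A) := by
    intro B hB
    have h1 : π (sa (A * A)) = 1 := (QuotientGroup.eq_one_iff _).2 (mul_mem_inn hodd hA hA)
    have h2 : π (sa (A * B)) = 1 := (QuotientGroup.eq_one_iff _).2 (mul_mem_inn hodd hA hB)
    rw [map_mul, map_mul] at h1 h2
    exact mul_left_cancel (h2.trans h1.symm)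
  have hconj : semiAut 1 σ * sa A =
      sa (Matrix.GeneralLinearGroup.map σ.toRingHom A) * semiAut 1 σ :=
    (std_conj A σ).2.trans (std_conj _ σ).1.symm
  have hout : sa (Matrix.GeneralLinearGroup.map σ.toRingHom A) ∉ (inn : Subgroup (MulAut PSL)) := by
    intro h
    rw [← mul_inv_eq_iff_eq_mul.2 hconj] at h
    have h' := inn_normal.conj_mem _ h (semiAut (1 : GL (Fin 2) F) σ)⁻¹
    exact hA (by simpa [mul_assoc] using h')
  have hc : Commute (π (semiAut 1 σ)) (π (sa A)) := by
    show π _ * π _ = π _ * π _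
    rw [← map_mul, hconj, map_mul, hne _ hout]
  set d := orderOf σ with hd
  have hβ : semiAut (1 : GL (Fin 2) F) σ ^ d = 1 := by
    rw [hd, ← orderOf_std le_rfl σ]
    exact pow_orderOf_eq_one _
  have ha2 : π (sa A) * π (sa A) = 1 := by
    rw [← map_mul, ← map_mul]
    exact (QuotientGroup.eq_one_iff _).2 (mul_mem_inn hodd hA hA)
  have h1 : π (semiAut A σ ^ d) = π (sa A) := by
    obtain ⟨j, hj⟩ := ho
    rw [hsplit, map_pow, map_mul, hc.symm.mul_pow, ← map_pow π (semiAut 1 σ), hβ, map_one, mul_one,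
      hj, pow_succ, pow_mul, pow_two, ha2, one_pow, one_mul]
  have h2 : semiAut A σ ^ d ∈ (inn : Subgroup (MulAut PSL)) :=
    hp _ (pow_mem hα d) (by rw [map_pow, fieldHom_semi, hd, pow_orderOf_eq_one])
  exact hA ((QuotientGroup.eq_one_iff _).1 (h1.symm.trans ((QuotientGroup.eq_one_iff _).2 h2)))

/-- The inner automorphisms fixed by a standard field automorphism of odd order. -/
theorem exists_fixed_iso (σ : F ≃+* F) (ho : Odd (orderOf σ)) :
    Nonempty (Matrix.ProjectiveSpecialLinearGroup (Fin 2) (fixField σ) ≃*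
      ↥((inn : Subgroup (MulAut PSL)) ⊓ Subgroup.centralizer {semiAut (1 : GL (Fin 2) F) σ})) := by
  classical
  let ι := Matrix.GeneralLinearGroup.map (n := Fin 2) (fixField σ).subtype
  have hmem : ∀ s : Matrix.SpecialLinearGroup (Fin 2) (fixField σ),
      sa (ι (Matrix.SpecialLinearGroup.toGL s)) ∈
        (inn : Subgroup (MulAut PSL)) ⊓ Subgroup.centralizer {semiAut (1 : GL (Fin 2) F) σ} := by
    intro s
    refine ⟨sa_mem_inn.2 ⟨1, Units.ext ?_⟩, Subgroup.mem_centralizer_singleton_iff.2
      ((commute_iff le_rfl _ σ rfl ho.pos).2 ⟨_, 1, by rw [scl_one, one_mul]⟩)⟩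
    rw [mul_one, Units.val_one, Matrix.GeneralLinearGroup.val_det_apply]
    show Matrix.det ((fixField σ).subtype.mapMatrix (s : Matrix (Fin 2) (Fin 2) (fixField σ))) = 1
    rw [← RingHom.map_det, s.prop, map_one]
  let Φ : Matrix.SpecialLinearGroup (Fin 2) (fixField σ) →*
      ↥((inn : Subgroup (MulAut PSL)) ⊓ Subgroup.centralizer {semiAut (1 : GL (Fin 2) F) σ}) :=
    (sa.comp (ι.comp Matrix.SpecialLinearGroup.toGL)).codRestrict _ hmem
  have hΦ : Function.Surjective Φ := by
    rintro ⟨α, hαi, hαc⟩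
    obtain ⟨A, rfl⟩ := inn_le hαi
    obtain ⟨B, c, hA⟩ := (commute_iff le_rfl A σ rfl ho.pos).1
      (Subgroup.mem_centralizer_singleton_iff.1 hαc)
    obtain ⟨e, he⟩ := sa_mem_inn.1 hαi
    set d : Fˣ := Units.map (fixField σ).subtype.toMonoidHom (Matrix.GeneralLinearGroup.det B)
      with hd
    have hdA : Matrix.GeneralLinearGroup.det A = c ^ 2 * d := by
      rw [hA, map_mul, det_scl]
      congr 1
    set x : Fˣ := e * c⁻¹ with hx
    have hx2 : x * x = d := by
      rw [hx, mul_mul_mul_comm, ← he, hdA, pow_two, mul_comm (c * c) d, mul_assoc,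
        mul_mul_mul_comm c c, mul_inv_cancel, one_mul, mul_one]
    have hxf : σ (x : F) = x := by
      have h2 : σ (x : F) * σ x = x * x := by
        rw [← map_mul, ← Units.val_mul, hx2]
        exact ((Matrix.GeneralLinearGroup.det B : (fixField σ)ˣ) : fixField σ).2
      rcases mul_self_eq_mul_self_iff.1 h2 with h | h
      · exact h
      · have hk : ∀ k : ℕ, (σ ^ k) (x : F) = (-1) ^ k * x := fun k => by
          induction k with
          | zero => simp
          | succ k ih =>
            rw [pow_succ', RingAut.mul_apply, ih, map_mul, map_pow, map_neg, map_one, h, pow_succ]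
            ring
        have h1 := hk (orderOf σ)
        rw [pow_orderOf_eq_one, RingAut.one_apply, ho.neg_one_pow, neg_one_mul] at h1
        rw [h]
        exact h1.symm
    let x' : (fixField σ)ˣ := Units.mk0 ⟨x, hxf⟩ fun h0 => x.ne_zero (congrArg Subtype.val h0)
    have hxB : x' * x' = Matrix.GeneralLinearGroup.det B :=
      Units.ext (Subtype.ext (congrArg Units.val hx2))
    refine ⟨⟨((scl x'⁻¹ * B : GL (Fin 2) (fixField σ)) : Matrix (Fin 2) (Fin 2) (fixField σ)), ?_⟩,
      Subtype.ext ?_⟩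
    · rw [← Matrix.GeneralLinearGroup.val_det_apply, map_mul, det_scl, ← hxB, pow_two]
      simp
    · show sa (ι _) = sa A
      rw [hA, sa_eq_iff]
      refine ⟨Units.map (fixField σ).subtype.toMonoidHom x'⁻¹ * c⁻¹, ?_⟩
      have key : ∀ u : Matrix.SpecialLinearGroup (Fin 2) (fixField σ),
          (u : Matrix (Fin 2) (Fin 2) (fixField σ)) =
            ((scl x'⁻¹ * B : GL (Fin 2) (fixField σ)) : Matrix (Fin 2) (Fin 2) (fixField σ)) →
          ι (Matrix.SpecialLinearGroup.toGL u) = ι (scl x'⁻¹ * B) :=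
        fun u hu => congrArg ι (Units.ext hu)
      refine (key _ rfl).trans ?_
      rw [map_mul, scl_subtype, scl_mul, mul_assoc, ← mul_assoc (scl c⁻¹),
        ← scl_mul, inv_mul_cancel, scl_one, one_mul]
  have hker : Φ.ker = Subgroup.center (Matrix.SpecialLinearGroup (Fin 2) (fixField σ)) := by
    ext s
    rw [MonoidHom.mem_ker, Subtype.ext_iff, Matrix.SpecialLinearGroup.mem_center_iff]
    show sa (ι (Matrix.SpecialLinearGroup.toGL s)) = 1 ↔ _
    rw [sa_eq_one]
    have hval : ∀ i j, ((ι (Matrix.SpecialLinearGroup.toGL s) : GL (Fin 2) F) :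
        Matrix (Fin 2) (Fin 2) F) i j = ((s : Matrix (Fin 2) (Fin 2) (fixField σ)) i j : F) :=
      fun _ _ => rfl
    constructor
    · rintro ⟨c, hc⟩
      have hent : ∀ i j, ((s : Matrix (Fin 2) (Fin 2) (fixField σ)) i j : F) =
          !![(c : F), 0; 0, (c : F)] i j := fun i j => by rw [← hval, hc, scl_val]
      have hv : (c : F) = ((s : Matrix (Fin 2) (Fin 2) (fixField σ)) 0 0 : F) := by
        simpa using (hent 0 0).symm
      refine ⟨(s : Matrix (Fin 2) (Fin 2) (fixField σ)) 0 0, ?_, ?_⟩
      · rw [Fintype.card_fin]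
        refine Subtype.ext ?_
        have h1 := congrArg (fun x : fixField σ => (x : F)) s.prop
        simp only [Matrix.det_fin_two, AddSubgroupClass.coe_sub, MulMemClass.coe_mul, hent,
          OneMemClass.coe_one] at h1
        simp at h1
        rw [SubmonoidClass.coe_pow, ← hv, OneMemClass.coe_one, pow_two]
        linear_combination h1
      · refine Matrix.ext fun i j => Subtype.ext ?_
        rw [hent i j, hv]
        fin_cases i <;> fin_cases j <;> simp [Matrix.scalar_apply]
    · rintro ⟨r, hr, hs⟩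
      have hr0 : r ≠ 0 := fun h0 => by rw [h0, Fintype.card_fin] at hr; simp at hr
      refine ⟨Units.map (fixField σ).subtype.toMonoidHom (Units.mk0 r hr0), ?_⟩
      rw [← scl_subtype]
      congr 1
      refine Units.ext ?_
      rw [show ((Matrix.SpecialLinearGroup.toGL s : GL (Fin 2) (fixField σ)) :
        Matrix (Fin 2) (Fin 2) (fixField σ)) = s from rfl, ← hs]
      ext i j
      fin_cases i <;> fin_cases j <;> simp [scl_val, Matrix.scalar_apply]
  exact ⟨(QuotientGroup.quotientMulEquivOfEq hker.symm).trans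
    (QuotientGroup.quotientKerEquivOfSurjective Φ hΦ)⟩

/-- An automorphism fixing the fixed field of `σ` is a power of `σ`. -/
theorem mem_zpowers_of_fix {σ τ : F ≃+* F} (h : ∀ x ∈ fixField σ, τ x = x) :
    τ ∈ Subgroup.zpowers σ := by
  obtain ⟨n, hp, hq⟩ := FiniteField.card F (ringChar F)
  haveI : Fact (ringChar F).Prime := ⟨hp⟩
  haveI : Finite (F ≃+* F) :=
    Finite.of_injective (fun σ : F ≃+* F => (σ : F → F)) DFunLike.coe_injective
  obtain ⟨e⟩ := ringAut_cyclic (F := F) hq
  haveI : IsCyclic (F ≃+* F) := isCyclic_of_surjective e.symm.toMonoidHom e.symm.surjective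
  obtain ⟨ρ, hρ⟩ :=
    (Subgroup.isCyclic_iff_exists_zpowers_eq_top (Subgroup.closure ({σ, τ} : Set (F ≃+* F)))).1
      inferInstance
  have hfix : ∀ x ∈ fixField σ, ρ x = x := by
    intro x hx
    have hρm : ρ ∈ Subgroup.closure ({σ, τ} : Set (F ≃+* F)) := hρ ▸ Subgroup.mem_zpowers ρ
    refine Subgroup.closure_induction (p := fun g _ => g x = x) ?_ ?_ ?_ ?_ hρm
    · rintro g (rfl | rfl)
      · exact hx
      · exact h x hx
    · rfl
    · intro g g' _ _ hg hg'
      rw [RingAut.mul_apply, hg', hg]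
    · intro g _ hg
      show g.symm x = x
      conv_lhs => rw [← hg]
      exact g.symm_apply_apply x
  obtain ⟨j, hj⟩ : σ ∈ Subgroup.zpowers ρ := hρ ▸ Subgroup.subset_closure (Set.mem_insert σ _)
  have hback : ∀ x ∈ fixField ρ, σ x = x := by
    intro x hx
    rw [← hj]
    show ρ ^ j ∈ MulAction.stabilizer (F ≃+* F) x
    exact zpow_mem (show ρ ∈ MulAction.stabilizer (F ≃+* F) x from hx) j
  have hcard : Nat.card (fixField ρ) = Nat.card (fixField σ) :=
    Nat.card_congr (Equiv.subtypeEquivRight fun x => ⟨hback x, hfix x⟩)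
  have h1 := card_fixField hq ρ rfl (orderOf_pos ρ)
  have h2 := card_fixField hq σ rfl (orderOf_pos σ)
  rw [h1.2, h2.2] at hcard
  have h3 : (n : ℕ) / orderOf ρ = (n : ℕ) / orderOf σ := Nat.pow_right_injective hp.two_le hcard
  have h4 : orderOf ρ = orderOf σ := by
    obtain ⟨a, ha⟩ := h1.1
    obtain ⟨b, hb⟩ := h2.1
    rw [ha, Nat.mul_div_cancel_left _ (orderOf_pos ρ)] at h3
    rw [← ha, hb, Nat.mul_div_cancel_left _ (orderOf_pos σ)] at h3
    subst h3
    have : 0 < a := Nat.pos_of_ne_zero fun h0 => n.ne_zero (by rw [ha, h0, mul_zero])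
    exact Nat.eq_of_mul_eq_mul_right this (ha.symm.trans hb)
  have heq : Subgroup.zpowers σ = Subgroup.zpowers ρ :=
    Subgroup.eq_of_le_of_card_ge (Subgroup.zpowers_le.2 ⟨j, hj⟩)
      (by rw [Nat.card_zpowers, Nat.card_zpowers, h4])
  rw [heq, hρ]
  exact Subgroup.subset_closure (Set.mem_insert_of_mem _ rfl)

/-- The order of the fixed field. -/
theorem card_eq_fixField_pow (σ : F ≃+* F) :
    Fintype.card F = Nat.card (fixField σ) ^ orderOf σ := by
  obtain ⟨n, hp, hq⟩ := FiniteField.card F (ringChar F)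
  haveI : Fact (ringChar F).Prime := ⟨hp⟩
  haveI : Finite (F ≃+* F) :=
    Finite.of_injective (fun σ : F ≃+* F => (σ : F → F)) DFunLike.coe_injective
  obtain ⟨h1, h2⟩ := card_fixField hq σ rfl (orderOf_pos σ)
  rw [h2, ← pow_mul, Nat.div_mul_cancel h1, hq]

end CfsgLib.Walter.Field
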