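import Cfsg.Agent.Lib.Walter.Statement
import Cfsg.Agent.Lib.GWDihedral.LTwoField
import Cfsg.Agent.Lib.Recognition.ReeCentralizer.Basic

/-!
# No field automorphisms in the centraliser of an involution: statements and interfaces

After the balanced part all the `O(C(t))` are trivial and `C(t)/⟨t⟩` is `PSL(2,q)` extended by a
cyclic group of field automorphisms of odd order.  `FieldFree` says that the latter is trivial.  The
paper proof is in `tools/NOTES_WALTER.md`, section 10, with `NOTES_WALTER_F1_R3.md` for `r = 3 ∣ q`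
and `NOTES_WALTER_F1_TORUS_PRIMES.md` for the local facts about `C(y)`.
-/

set_option autoImplicit false
set_option linter.unusedSectionVars false

universe u

namespace CfsgLib.Walter

open Subgroup
open CfsgLib.GWKlein (core oddPart)
open CfsgLib.GWDihedral.LTwoAut (inn)
open CfsgLib.KnownC.AutPSL (semiAut)

variable {G : Type u} [Group G]

/-- The situation after the balanced part at the involution `t`: `f` is the action of `C(t)` on the
`PSL(2,F)` of `C(t)/⟨t⟩`. -/
structure FieldSetting (S : Subgroup G) (t : G) (F : Type) [Field F] [Fintype F]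
    (f : ↥(centralizer ({t} : Set G)) →* MulAut (Matrix.ProjectiveSpecialLinearGroup (Fin 2) F)) :
    Prop where
  minimal : Minimal G S
  cores : ∀ u ∈ S, u ≠ 1 → oddPart u = ⊥
  mem : t ∈ S
  ne : t ≠ 1
  large : 3 < Fintype.card F
  mod_eight : Fintype.card F % 8 = 3 ∨ Fintype.card F % 8 = 5
  ker : f.ker = (zpowers t).subgroupOf (centralizer ({t} : Set G))
  inn_le : inn ≤ f.range

/-- `y` is an `r`-element inducing the field automorphism `φ`, and it generates the whole `r`-part
of the field automorphisms induced by `C(t)`. -/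
structure FieldPart {t : G} {F : Type} [Field F] [Fintype F]
    (f : ↥(centralizer ({t} : Set G)) →* MulAut (Matrix.ProjectiveSpecialLinearGroup (Fin 2) F))
    (r : ℕ) (φ : F ≃+* F) (y : G) : Prop where
  prime : r.Prime
  odd : r ≠ 2
  mem : y ∈ centralizer ({t} : Set G)
  ne : y ≠ 1
  order : ∃ a : ℕ, orderOf y = r ^ a
  image : f ⟨y, mem⟩ = semiAut (1 : GL (Fin 2) F) φ
  full : ¬ r ∣ (inn ⊔ zpowers (f ⟨y, mem⟩)).relIndex f.range

/-- In `C(y)`: an abelian `r`-subgroup `A` inverted by `t` that completes `⟨y⟩` to a Sylow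
`r`-subgroup, and `g` centralising `t` and `y` that acts on `A` as the `k`-th power. -/
structure TorusAt (t y : G) (r : ℕ) (A : Subgroup G) (g : G) (k : ℕ) : Prop where
  le : A ≤ centralizer ({y} : Set G)
  pgroup : IsPGroup r ↥A
  ne : A ≠ ⊥
  full : ¬ r ∣ (zpowers y ⊔ A).relIndex (centralizer ({y} : Set G))
  comm : ∀ x ∈ A, ∀ z ∈ A, Commute x z
  inverted : ∀ x ∈ A, t * x * t⁻¹ = x⁻¹
  g_t : Commute t g
  g_y : Commute y g
  g_odd : Odd (orderOf g)
  g_coprime : ¬ r ∣ orderOf g
  scalar : ∀ x ∈ A, g * x * g⁻¹ = x ^ k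
  moved : k % r ≠ 1 ∧ k ^ 2 % r ≠ 1

/-- The Sylow `r`-subgroup `A` of a group with the centraliser of a Ree group, `a` inverting it and
`g` acting on it as a power. -/
structure TorusData (X : Type u) [Group X] (r : ℕ) (A : Subgroup X) (a g : X) (k : ℕ) : Prop where
  sylow : ∃ P : Sylow r X, (P : Subgroup X) = A
  ne : A ≠ ⊥
  comm : ∀ x ∈ A, ∀ z ∈ A, Commute x z
  inv2 : orderOf a = 2
  inverted : ∀ x ∈ A, a * x * a⁻¹ = x⁻¹
  g_a : Commute a g
  g_odd : Odd (orderOf g)
  g_coprime : ¬ r ∣ orderOf g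
  scalar : ∀ x ∈ A, g * x * g⁻¹ = x ^ k
  moved : k % r ≠ 1 ∧ k ^ 2 % r ≠ 1

/-- The local input, parts A and B of the notes: the torus of order dividing `q² - q + 1`. -/
def LocalInput : Prop :=
  ∀ (X : Type u) [Group X] [Finite X] [IsSimpleGroup X] (F : Type) [Field F] [Fintype F] (t : X),
    Nonempty (Recognition.ReeCentralizer.Setting X F t) →
      ∀ m : ℕ, 1 ≤ m → Fintype.card F = 3 ^ (2 * m + 1) → ∀ r : ℕ, r.Prime →
        r ∣ Fintype.card F ^ 2 - Fintype.card F + 1 →
          ∃ (A : Subgroup X) (a g : X) (k : ℕ), TorusData X r A a g k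

/-- The characteristic case. -/
def ThreeHyp : Prop :=
  ∀ (G : Type u) [Group G] [Finite G] (S : Subgroup G) (t : G) (F : Type) [Field F] [Fintype F]
    (f : ↥(centralizer ({t} : Set G)) →* MulAut (Matrix.ProjectiveSpecialLinearGroup (Fin 2) F)),
    FieldSetting S t F f → 3 ∣ Fintype.card F → ¬ 3 ∣ inn.relIndex f.range

/-- The primes of the torus of `C(y)`. -/
def TorusHyp : Prop :=
  ∀ (G : Type u) [Group G] [Finite G] (S : Subgroup G) (t : G) (F : Type) [Field F] [Fintype F]
    (f : ↥(centralizer ({t} : Set G)) →* MulAut (Matrix.ProjectiveSpecialLinearGroup (Fin 2) F))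
    (r : ℕ) (φ : F ≃+* F) (y : G),
    FieldSetting S t F f → FieldPart f r φ y →
      ¬ r ∣ Fintype.card F * (Fintype.card F ^ 2 - 1) →
        ∀ (A : Subgroup G) (g : G) (k : ℕ), ¬ TorusAt t y r A g k

/-- The conclusion: no field automorphisms. -/
def FieldFree : Prop :=
  ∀ (G : Type u) [Group G] [Finite G] (S : Subgroup G) (t : G) (F : Type) [Field F] [Fintype F]
    (f : ↥(centralizer ({t} : Set G)) →* MulAut (Matrix.ProjectiveSpecialLinearGroup (Fin 2) F)),
    FieldSetting S t F f → f.range = inn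

end CfsgLib.Walter
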