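import Cfsg.Agent.Lib.GWKlein.Statement
import Mathlib.GroupTheory.Transfer
import Mathlib.GroupTheory.Perm.Cycle.Type

/-!
# Transfer into the centraliser of an involution at an element of prime order

If `φ : C(t) → A` is constant on the conjugates of `y` lying in `C(t)`, the transfer at `y` is
`φ y` to the number of conjugates of `t` commuting with `y`.
-/

set_option autoImplicit false
set_option linter.unusedSectionVars false
set_option linter.style.haveILetI false

universe u v

namespace CfsgLib.Walter.Field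

open Subgroup MulAction

variable {G : Type u} [Group G] [Finite G] {H : Subgroup G} {A : Type v} [CommGroup A]

/-- The transfer at an element of order dividing `r ^ a` counts the fixed cosets, if the
homomorphism kills the smaller orders. -/
theorem transfer_eq_pow_fixed [H.FiniteIndex] (φ : H →* A) {y : G} {r a : ℕ} (hr : r.Prime)
    (hyr : y ^ r ^ a = 1) (hy : y ∈ H) (hsmall : ∀ c : H, c ^ r ^ (a - 1) = 1 → φ c = 1)
    (hconst : ∀ (g : G) (hg : g⁻¹ * y * g ∈ H), φ ⟨g⁻¹ * y * g, hg⟩ = φ ⟨y, hy⟩) :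
    MonoidHom.transfer φ y = φ ⟨y, hy⟩ ^ Nat.card {q : G ⧸ H // y • q = q} := by
  classical
  haveI : Fintype (Quotient (orbitRel (zpowers y) (G ⧸ H))) := Fintype.ofFinite _
  rw [MonoidHom.transfer_eq_prod_quotient_orbitRel_zpowers_quot]
  set p : Quotient (orbitRel (zpowers y) (G ⧸ H)) → ℕ := fun q =>
    Function.minimalPeriod (y • ·) q.out with hp
  have hdvd : ∀ q, ∃ j ≤ a, p q = r ^ j := fun q => (Nat.dvd_prime_pow hr).1 (by
    refine Function.IsPeriodicPt.minimalPeriod_dvd ?_
    show (fun x => y • x)^[r ^ a] q.out = q.out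
    rw [smul_iterate, hyr]
    exact one_smul G q.out)
  have hfix : ∀ q, p q = 1 ↔ y • q.out = q.out := fun q =>
    Function.minimalPeriod_eq_one_iff_isFixedPt
  rw [Finset.prod_congr rfl (g := fun q => if p q = 1 then φ ⟨y, hy⟩ else 1) fun q _ => ?_]
  · rw [Finset.prod_ite, Finset.prod_const, Finset.prod_const_one, mul_one]
    congr 1
    rw [← Nat.card_eq_finsetCard]
    refine Nat.card_eq_of_bijective (fun q => ⟨q.1.out, (hfix _).1 (Finset.mem_filter.1 q.2).2⟩)
      ⟨fun a b e => ?_, fun x => ?_⟩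
    · exact Subtype.ext (Quotient.out_injective (congrArg Subtype.val e))
    · set q : Quotient (orbitRel (zpowers y) (G ⧸ H)) := Quotient.mk'' x.1 with hq
      have hqx : q.out = x.1 := by
        obtain ⟨⟨w, hw⟩, hw'⟩ := mem_orbit_iff.1 (orbitRel_apply.1 (Quotient.exact (Quotient.out_eq q)))
        obtain ⟨i, rfl⟩ := mem_zpowers_iff.1 hw
        rw [← hw']
        show y ^ i • x.1 = x.1
        exact mem_stabilizer_iff.1 (zpow_mem (mem_stabilizer_iff.2 x.2) i)
      exact ⟨⟨q, Finset.mem_filter.2 ⟨Finset.mem_univ _, (hfix _).2 (by rw [hqx]; exact x.2)⟩⟩,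
        Subtype.ext hqx⟩
  · obtain ⟨j, -, e⟩ := hdvd q
    rcases Nat.eq_zero_or_pos j with rfl | hj
    · rw [pow_zero] at e
      rw [if_pos e]
      simp only [hp] at e
      refine (congrArg φ (Subtype.ext ?_)).trans (hconst q.out.out ?_)
      · simp [e]
      · rw [mul_assoc, ← QuotientGroup.eq, QuotientGroup.out_eq', ← smul_eq_mul,
          ← Quotient.smul_mk, QuotientGroup.out_eq']
        exact ((hfix q).1 e).symm
    · rw [if_neg (by rw [e]; exact (Nat.one_lt_pow hj.ne' hr.one_lt).ne')]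
      refine hsmall _ (Subtype.ext ?_)
      simp only [hp] at e
      rw [SubmonoidClass.coe_pow, OneMemClass.coe_one]
      simp only [e]
      rw [show q.out.out⁻¹ * y ^ r ^ j * q.out.out = q.out.out⁻¹ * y ^ r ^ j * q.out.out⁻¹⁻¹ by
          rw [inv_inv], conj_pow, ← pow_mul, ← pow_add]
      have : r ^ a ∣ r ^ (j + (a - 1)) := Nat.pow_dvd_pow r (by omega)
      obtain ⟨d, hd⟩ := this
      rw [hd, pow_mul, hyr, one_pow, mul_one, mul_inv_cancel]

/-- The fixed cosets of `C(t)` are the conjugates of `t` commuting with `y`. -/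
theorem card_fixed_cosets (t y : G) :
    Nat.card {q : G ⧸ centralizer ({t} : Set G) // y • q = q} =
      Nat.card {u : G // IsConj t u ∧ Commute y u} := by
  have key : ∀ g h : G, g⁻¹ * h ∈ centralizer ({t} : Set G) → g * t * g⁻¹ = h * t * h⁻¹ := by
    intro g h hgh
    rw [mem_centralizer_singleton_iff] at hgh
    calc g * t * g⁻¹ = g * (t * (g⁻¹ * h)) * h⁻¹ := by group
      _ = h * t * h⁻¹ := by rw [← hgh]; group
  let f : G ⧸ centralizer ({t} : Set G) → G :=
    Quotient.lift (fun g => g * t * g⁻¹) fun g h hgh =>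
      key g h (QuotientGroup.leftRel_apply.1 hgh)
  have hf : ∀ g : G, f (g : G ⧸ centralizer ({t} : Set G)) = g * t * g⁻¹ := fun g => rfl
  have hinj : Function.Injective f := by
    intro a b
    induction a using QuotientGroup.induction_on with
    | _ g =>
      induction b using QuotientGroup.induction_on with
      | _ h =>
        intro e
        rw [hf, hf] at e
        refine QuotientGroup.eq.2 (mem_centralizer_singleton_iff.2 ?_)
        calc g⁻¹ * h * t = g⁻¹ * (h * t * h⁻¹) * h := by group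
          _ = t * (g⁻¹ * h) := by rw [← e]; group
  have hcomm : ∀ g : G, (y • (g : G ⧸ centralizer ({t} : Set G)) = g) ↔
      Commute y (g * t * g⁻¹) := by
    intro g
    rw [← hinj.eq_iff]
    show y * g * t * (y * g)⁻¹ = g * t * g⁻¹ ↔ _
    rw [show y * g * t * (y * g)⁻¹ = y * (g * t * g⁻¹) * y⁻¹ by group, mul_inv_eq_iff_eq_mul]
    rfl
  refine Nat.card_eq_of_bijective (fun q => ⟨f q.1, ?_⟩) ⟨fun a b e => ?_, fun u => ?_⟩
  · obtain ⟨q, hq⟩ := q
    induction q using QuotientGroup.induction_on with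
    | _ g => exact ⟨by rw [hf]; exact isConj_iff.2 ⟨g, rfl⟩, (hcomm g).1 hq⟩
  · exact Subtype.ext (hinj (congrArg Subtype.val e))
  · obtain ⟨g, hg⟩ := isConj_iff.1 u.2.1
    exact ⟨⟨g, (hcomm g).2 (by rw [hg]; exact u.2.2)⟩, Subtype.ext hg⟩

/-- In a group without abelian quotient: if the centraliser of `y` permutes the conjugates of `t`
commuting with `y` transitively, their number kills the value of any homomorphism of `C(t)` at `y`. -/
theorem pow_card_eq_one (hG : commutator G = ⊤) {t y : G} {r a : ℕ} (hr : r.Prime)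
    (hyr : y ^ r ^ a = 1) (hy : y ∈ centralizer ({t} : Set G)) (φ : centralizer ({t} : Set G) →* A)
    (hsmall : ∀ c : centralizer ({t} : Set G), c ^ r ^ (a - 1) = 1 → φ c = 1)
    (htrans : ∀ u, IsConj t u → Commute y u →
      ∃ k ∈ centralizer ({y} : Set G), k * t * k⁻¹ = u) :
    φ ⟨y, hy⟩ ^ Nat.card {u : G // IsConj t u ∧ Commute y u} = 1 := by
  rw [← card_fixed_cosets t y, ← transfer_eq_pow_fixed φ hr hyr hy hsmall]
  · exact Abelianization.commutator_subset_ker (MonoidHom.transfer φ) (hG ▸ mem_top y)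
  intro g hg
  have hc : Commute y (g * t * g⁻¹) := by
    have := congrArg (fun a => g * a * g⁻¹) (mem_centralizer_singleton_iff.1 hg)
    show y * (g * t * g⁻¹) = g * t * g⁻¹ * y
    simpa [mul_assoc] using this
  obtain ⟨k, hk, hkt⟩ := htrans _ (isConj_iff.2 ⟨g, rfl⟩) hc
  have hc0 : k⁻¹ * g ∈ centralizer ({t} : Set G) := mem_centralizer_singleton_iff.2 (by
    calc k⁻¹ * g * t = k⁻¹ * (g * t * g⁻¹) * g := by group
      _ = t * (k⁻¹ * g) := by rw [← hkt]; group)
  set c : centralizer ({t} : Set G) := ⟨k⁻¹ * g, hc0⟩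
  have e : (⟨g⁻¹ * y * g, hg⟩ : centralizer ({t} : Set G)) = c⁻¹ * ⟨y, hy⟩ * c := Subtype.ext (by
    show g⁻¹ * y * g = (k⁻¹ * g)⁻¹ * y * (k⁻¹ * g)
    calc g⁻¹ * y * g = g⁻¹ * (y * k) * k⁻¹ * g := by group
      _ = g⁻¹ * (k * y) * k⁻¹ * g := by rw [mem_centralizer_singleton_iff.1 hk]
      _ = (k⁻¹ * g)⁻¹ * y * (k⁻¹ * g) := by group)
  rw [e, map_mul, map_mul, map_inv, mul_comm (φ c)⁻¹, inv_mul_cancel_right]

end CfsgLib.Walter.Field
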