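import Cfsg.Agent.Lib.Walter.Basic
import Cfsg.Agent.Lib.Walter.Field.TransferTools

/-!
# The transfer at a field element counts involutions

`y` commutes with `N(S)`; then `C(y)` has one class of involutions and the transfer of a
homomorphism of `C(t)` at `y` is its value to the number of involutions of `C(y)`
(`tools/NOTES_WALTER.md`, section 6).
-/

set_option autoImplicit false
set_option linter.unusedSectionVars false
set_option linter.style.haveILetI false

universe u v

namespace CfsgLib.Walter.Field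

open Subgroup

variable {G : Type u} [Group G] [Finite G] {S : Subgroup G}

/-- A subgroup containing `N(S)` inherits the setting. -/
theorem setting_subgroupOf (hS : Setting G S) {K : Subgroup G}
    (hK : normalizer (S : Set G) ≤ K) : Setting ↥K (S.subgroupOf K) where
  sylow := by
    obtain ⟨P, rfl⟩ := hS.sylow
    exact ⟨P.subtype (le_normalizer.trans hK), rfl⟩
  card := by
    rw [Nat.card_congr (subgroupOfEquivOfLe (le_normalizer.trans hK)).toEquiv, hS.card]
  elem := by
    refine ⟨⟨⟨fun a b => Subtype.ext (Subtype.ext ?_)⟩⟩, fun a ha => Subtype.ext ?_⟩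
    · exact (hS.commute a.2 b.2).eq
    · rw [SubgroupClass.coe_pow, OneMemClass.coe_one]
      exact hS.elem.2 _ ha
  oneClass := by
    intro u v hu hv
    have h : ∀ w : ↥K, orderOf w = 2 →
        ∃ k : ↥K, ((k * w * k⁻¹ : ↥K) : G) ∈ S ∧ ((k * w * k⁻¹ : ↥K) : G) ≠ 1 := by
      intro w hw
      have hw2 : (w : G) * w = 1 :=
        congrArg Subtype.val (FTApps.RealGraph.invol_of_orderOf hw).1
      obtain ⟨k, hk, hkw⟩ := hS.exists_conj_mem (le_normalizer.trans hK) w.2 hw2
      refine ⟨⟨k, hk⟩, hkw, fun e => ?_⟩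
      exact (FTApps.RealGraph.invol_of_orderOf hw).2 (Subtype.ext (conj_eq_one_iff.1 e))
    obtain ⟨k, hk, hk1⟩ := h u hu
    obtain ⟨l, hl, hl1⟩ := h v hv
    obtain ⟨n, hn, he⟩ := hS.exists_normalizer_conj hk hl hk1 hl1
    refine ⟨l⁻¹ * ⟨n, hK hn⟩ * k, Subtype.ext ?_⟩
    push_cast at he ⊢
    calc (l : G)⁻¹ * n * k * u * ((l : G)⁻¹ * n * k)⁻¹
        = (l : G)⁻¹ * (n * (k * u * (k : G)⁻¹) * n⁻¹) * l := by group
      _ = v := by rw [he]; group

/-- The involutions of a subgroup containing `N(S)` form one class of it. -/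
theorem exists_conj_invol (hS : Setting G S) {K : Subgroup G}
    (hK : normalizer (S : Set G) ≤ K) {u v : G} (hu : u ∈ K) (hu2 : orderOf u = 2)
    (hv : v ∈ K) (hv2 : orderOf v = 2) : ∃ k ∈ K, k * u * k⁻¹ = v := by
  obtain ⟨k, hk⟩ := (setting_subgroupOf hS hK).oneClass ⟨u, hu⟩ ⟨v, hv⟩
    (by rw [Subgroup.orderOf_mk, hu2]) (by rw [Subgroup.orderOf_mk, hv2])
  exact ⟨k, k.2, congrArg Subtype.val hk⟩

/-- Transfer at an element of prime power order commuting with `N(S)`: the number of involutions of its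
centraliser kills its value. -/
theorem pow_card_invol_eq_one {A : Type v} [CommGroup A] (hS : Setting G S)
    (hG : commutator G = ⊤) {t y : G} {r a : ℕ} (ht : t ∈ S) (ht1 : t ≠ 1) (hr : r.Prime)
    (hyr : y ^ r ^ a = 1) (hy : normalizer (S : Set G) ≤ centralizer ({y} : Set G))
    (hyt : y ∈ centralizer ({t} : Set G)) (φ : centralizer ({t} : Set G) →* A)
    (hsmall : ∀ c : centralizer ({t} : Set G), c ^ r ^ (a - 1) = 1 → φ c = 1) :
    φ ⟨y, hyt⟩ ^ Nat.card {u : G // orderOf u = 2 ∧ Commute y u} = 1 := by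
  have e : Nat.card {u : G // IsConj t u ∧ Commute y u} =
      Nat.card {u : G // orderOf u = 2 ∧ Commute y u} := by
    refine Nat.card_congr (Equiv.subtypeEquivRight fun u => and_congr_left fun _ => ⟨?_, ?_⟩)
    · intro h
      obtain ⟨g, rfl⟩ := isConj_iff.1 h
      rw [Involution.Dihedral.orderOf_conj, hS.orderOf_two ht ht1]
    · exact fun h => isConj_iff.2 (hS.oneClass t u (hS.orderOf_two ht ht1) h)
  rw [← e]
  refine pow_card_eq_one hG hr hyr hyt φ hsmall fun u hu hyu => ?_
  obtain ⟨g, rfl⟩ := isConj_iff.1 hu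
  exact exists_conj_invol hS hy (hy (le_normalizer ht)) (hS.orderOf_two ht ht1)
    (mem_centralizer_singleton_iff.2 hyu.eq.symm)
    (by rw [Involution.Dihedral.orderOf_conj, hS.orderOf_two ht ht1])

/-- If `φ` has exponent `r` and `φ y ≠ 1`, then `r` divides the number of involutions of `C(y)`. -/
theorem dvd_card_invol {A : Type v} [CommGroup A] (hS : Setting G S)
    (hG : commutator G = ⊤) {t y : G} {r a : ℕ} (ht : t ∈ S) (ht1 : t ≠ 1) (hr : r.Prime)
    (hyr : y ^ r ^ a = 1) (hy : normalizer (S : Set G) ≤ centralizer ({y} : Set G))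
    (hyt : y ∈ centralizer ({t} : Set G)) (φ : centralizer ({t} : Set G) →* A)
    (hsmall : ∀ c : centralizer ({t} : Set G), c ^ r ^ (a - 1) = 1 → φ c = 1)
    (hexp : ∀ x : A, x ^ r = 1) (hφ : φ ⟨y, hyt⟩ ≠ 1) :
    r ∣ Nat.card {u : G // orderOf u = 2 ∧ Commute y u} := by
  haveI := Fact.mk hr
  have h1 : orderOf (φ ⟨y, hyt⟩) = r := orderOf_eq_prime (hexp _) hφ
  rw [← h1]
  exact orderOf_dvd_of_pow_eq_one (pow_card_invol_eq_one hS hG ht ht1 hr hyr hy hyt φ hsmall)

end CfsgLib.Walter.Field
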