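import Cfsg.Agent.Lib.CharDeep.Brauer
import Cfsg.Agent.Lib.CharDeep.PartHom
import Cfsg.Agent.Lib.DegreeTools.CentralSupport
import Cfsg.Agent.Lib.Char.Virtual

/-!
# Functions on a central extension of prime order, twisted by a character of the kernel

For a central extension `π : K → L` with kernel of prime order `r`, a linear character `λ` of the
kernel and a function `f` on `L` vanishing on the elements of order divisible by `r`, the function
`twist λ f` is `g ↦ λ (g_r) f (π g)` where the `r`-part of `g` lies in the kernel, and `0` elsewhere.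
The map preserves scalar products and generalized characters.
-/

set_option autoImplicit false
set_option linter.unusedSectionVars false

namespace CfsgLib.Walter.Field

open Subgroup Cfsg
open scoped _root_.Classical ComplexConjugate

universe u v

/-- A central extension with kernel of prime order `r`. -/
structure CentralExt (K : Type u) [Group K] (L : Type v) [Group L] (r : ℕ) where
  /-- the projection -/
  π : K →* L
  surj : Function.Surjective π
  prime : r.Prime
  card_ker : Nat.card π.ker = r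
  central : π.ker ≤ Subgroup.center K

/-- A function vanishing on the elements of order divisible by `r`. -/
def VanishSingular {L : Type v} [Group L] (r : ℕ) (f : L → ℂ) : Prop :=
  ∀ x : L, r ∣ orderOf x → f x = 0

namespace CentralExt

variable {K : Type u} [Group K] [Fintype K] {L : Type v} [Group L] [Fintype L] {r : ℕ}
  (X : CentralExt K L r)

/-- The order of the `r`-part of `K`. -/
noncomputable def rPart (_ : CentralExt K L r) : ℕ := r ^ (Nat.card K).factorization r

/-- The order of the `r'`-part of `K`. -/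
noncomputable def rest (_ : CentralExt K L r) : ℕ := Nat.card K / r ^ (Nat.card K).factorization r

theorem coprime_rest : Nat.Coprime X.rest X.rPart :=
  ((Nat.coprime_ordCompl X.prime Nat.card_pos.ne').symm).pow_right _

theorem rest_mul_rPart : X.rest * X.rPart = Nat.card K := by
  rw [rest, rPart, Nat.div_mul_cancel (Nat.ordProj_dvd _ _)]

/-- The exponent giving the `r`-part. -/
noncomputable def expR : ℕ := (CharDeep.PartHom.exists_exponent X.coprime_rest).choose

/-- The exponent giving the `r'`-part. -/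
noncomputable def expR' : ℕ := (CharDeep.PartHom.exists_exponent X.coprime_rest.symm).choose

theorem expR_zero : X.expR ≡ 0 [MOD X.rest] :=
  (CharDeep.PartHom.exists_exponent X.coprime_rest).choose_spec.1

theorem expR_one : X.expR ≡ 1 [MOD X.rPart] :=
  (CharDeep.PartHom.exists_exponent X.coprime_rest).choose_spec.2.1

theorem expR'_one : X.expR' ≡ 1 [MOD X.rest] :=
  (CharDeep.PartHom.exists_exponent X.coprime_rest.symm).choose_spec.2.1

theorem expR'_zero : X.expR' ≡ 0 [MOD X.rPart] :=
  (CharDeep.PartHom.exists_exponent X.coprime_rest.symm).choose_spec.1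

theorem expR'_idem : X.expR' * X.expR' ≡ X.expR' [MOD Nat.card K] := by
  have h := (CharDeep.PartHom.exists_exponent X.coprime_rest.symm).choose_spec.2.2
  exact h.of_dvd (by rw [mul_comm, X.rest_mul_rPart])

theorem pow_expR_mul_pow_expR' (g : K) : g ^ X.expR * g ^ X.expR' = g := by
  have h : X.expR + X.expR' ≡ 1 [MOD Nat.card K] := by
    rw [← X.rest_mul_rPart]
    refine (Nat.modEq_and_modEq_iff_modEq_mul X.coprime_rest).1 ⟨?_, ?_⟩
    · simpa using X.expR_zero.add X.expR'_one
    · simpa using X.expR_one.add X.expR'_zero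
  rw [← pow_add]
  exact CharDeep.PartHom.pow_exponent_eq_self h (orderOf_dvd_natCard g)

theorem dvd_rPart : r ∣ X.rPart := by
  have h : r ∣ Nat.card K := by
    have := Subgroup.card_subgroup_dvd_card X.π.ker
    rwa [X.card_ker] at this
  exact dvd_pow_self r (X.prime.factorization_pos_of_dvd Nat.card_pos.ne' h).ne'

theorem ker_pow_r {z : K} (hz : z ∈ X.π.ker) : z ^ r = 1 := by
  have h : (⟨z, hz⟩ : X.π.ker) ^ r = 1 := by
    have h' : (⟨z, hz⟩ : X.π.ker) ^ Nat.card X.π.ker = 1 := pow_card_eq_one'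
    exact (congrArg (fun n => (⟨z, hz⟩ : X.π.ker) ^ n) X.card_ker).symm.trans h'
  exact congrArg Subtype.val h

theorem ker_pow_expR {z : K} (hz : z ∈ X.π.ker) : z ^ X.expR = z :=
  CharDeep.PartHom.pow_exponent_eq_self X.expR_one
    ((orderOf_dvd_of_pow_eq_one (X.ker_pow_r hz)).trans X.dvd_rPart)

theorem ker_pow_expR' {z : K} (hz : z ∈ X.π.ker) : z ^ X.expR' = 1 :=
  CharDeep.PartHom.pow_exponent_eq_one X.expR'_zero
    ((orderOf_dvd_of_pow_eq_one (X.ker_pow_r hz)).trans X.dvd_rPart)

theorem coprime_rPart {n : ℕ} (h : ¬ r ∣ n) : Nat.Coprime n X.rPart :=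
  ((X.prime.coprime_iff_not_dvd.2 h).symm).pow_right _

theorem pow_expR_eq_one {L' : Type*} [Group L'] {x : L'} (hd : orderOf x ∣ Nat.card K)
    (hx : ¬ r ∣ orderOf x) : x ^ X.expR = 1 :=
  CharDeep.PartHom.pow_exponent_eq_one X.expR_zero
    ((X.coprime_rPart hx).dvd_of_dvd_mul_right (X.rest_mul_rPart ▸ hd))

theorem mem_ker_of_regular {g : K} (hg : ¬ r ∣ orderOf (X.π g)) : g ^ X.expR ∈ X.π.ker := by
  rw [MonoidHom.mem_ker, map_pow]
  exact X.pow_expR_eq_one ((orderOf_map_dvd X.π g).trans (orderOf_dvd_natCard g)) hg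

theorem not_dvd_of_mem_ker {g : K} (hg : g ^ X.expR ∈ X.π.ker) : ¬ r ∣ orderOf (X.π g) := by
  intro h
  rw [MonoidHom.mem_ker, map_pow] at hg
  have h0 : r ∣ X.expR := h.trans (orderOf_dvd_of_pow_eq_one hg)
  have h1 : X.expR % r = 1 % r := X.expR_one.of_dvd X.dvd_rPart
  rw [Nat.mod_eq_zero_of_dvd h0, Nat.one_mod_eq_one.2 X.prime.one_lt.ne'] at h1
  exact zero_ne_one h1

theorem ker_normal : X.π.ker.Normal := inferInstance

theorem mul_pow_expR {z g : K} (hz : z ∈ X.π.ker) : (z * g) ^ X.expR = z * g ^ X.expR := by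
  have hc : Commute z g := (Subgroup.mem_center_iff.1 (X.central hz) g).symm
  rw [hc.mul_pow, X.ker_pow_expR hz]

/-- The character `λ` of the kernel, extended by zero. -/
noncomputable def lamZero (lam : X.π.ker →* ℂˣ) (z : K) : ℂ :=
  if h : z ∈ X.π.ker then (lam ⟨z, h⟩ : ℂ) else 0

theorem lamZero_mem (lam : X.π.ker →* ℂˣ) {z : K} (h : z ∈ X.π.ker) :
    X.lamZero lam z = (lam ⟨z, h⟩ : ℂ) := dif_pos h

theorem lamZero_mul_conj (lam : X.π.ker →* ℂˣ) {z : K} (h : z ∈ X.π.ker) :
    X.lamZero lam z * conj (X.lamZero lam z) = 1 := by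
  rw [X.lamZero_mem lam h]
  have hp : ((lam ⟨z, h⟩ : ℂˣ) : ℂ) ^ r = 1 := by
    rw [← Units.val_pow_eq_pow_val, ← map_pow,
      show (⟨z, h⟩ : X.π.ker) ^ r = 1 from Subtype.ext (X.ker_pow_r h), map_one, Units.val_one]
  have hn := Complex.norm_eq_one_of_pow_eq_one hp X.prime.ne_zero
  rw [Complex.mul_conj, Complex.normSq_eq_norm_sq, hn]
  norm_num

/-- The twist of `f` by `λ`. -/
noncomputable def twist (lam : X.π.ker →* ℂˣ) (f : L → ℂ) (g : K) : ℂ :=
  X.lamZero lam (g ^ X.expR) * f (X.π g)

theorem twist_one (lam : X.π.ker →* ℂˣ) (f : L → ℂ) : X.twist lam f 1 = f 1 := by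
  rw [twist, one_pow, X.lamZero_mem lam (one_mem _), map_one,
    show (⟨(1 : K), one_mem _⟩ : X.π.ker) = 1 from rfl, map_one, Units.val_one, one_mul]

theorem twist_regular (lam : X.π.ker →* ℂˣ) (f : L → ℂ) {g : K} (hg : ¬ r ∣ orderOf g) :
    X.twist lam f g = f (X.π g) := by
  rw [twist, X.pow_expR_eq_one (orderOf_dvd_natCard g) hg, X.lamZero_mem lam (one_mem _),
    show (⟨(1 : K), one_mem _⟩ : X.π.ker) = 1 from rfl, map_one, Units.val_one, one_mul]

theorem twist_mul (lam : X.π.ker →* ℂˣ) (f : L → ℂ) {z g : K} (hz : z ∈ X.π.ker) :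
    X.twist lam f (z * g) = (lam ⟨z, hz⟩ : ℂ) * X.twist lam f g := by
  rw [twist, twist, X.mul_pow_expR hz, map_mul, MonoidHom.mem_ker.1 hz, one_mul, ← mul_assoc]
  congr 1
  by_cases h : g ^ X.expR ∈ X.π.ker
  · rw [X.lamZero_mem lam h, X.lamZero_mem lam (mul_mem hz h), ← Units.val_mul, ← map_mul]
    rfl
  · rw [lamZero, lamZero, dif_neg h, dif_neg fun h' => h ((Subgroup.mul_mem_cancel_left _ hz).1 h'), mul_zero]

theorem isClassFunction_twist (lam : X.π.ker →* ℂˣ) {f : L → ℂ} (hf : IsClassFunction L f) :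
    IsClassFunction K (X.twist lam f) := fun g h => by
  rw [twist, twist, map_mul, map_mul, map_inv, hf, conj_pow]
  congr 1
  by_cases hm : g ^ X.expR ∈ X.π.ker
  · rw [show h * g ^ X.expR * h⁻¹ = g ^ X.expR by
      rw [Subgroup.mem_center_iff.1 (X.central hm) h, mul_inv_cancel_right]]
  · rw [lamZero, lamZero, dif_neg hm, dif_neg fun h' => hm (by
      have := X.ker_normal.conj_mem _ h' h⁻¹
      simpa [mul_assoc] using this)]

theorem twist_mul_conj (lam : X.π.ker →* ℂˣ) {f f' : L → ℂ} (hf : VanishSingular r f) (g : K) :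
    X.twist lam f g * conj (X.twist lam f' g) = f (X.π g) * conj (f' (X.π g)) := by
  by_cases hg : r ∣ orderOf (X.π g)
  · rw [twist, hf _ hg]; simp
  · rw [twist, twist, map_mul]
    linear_combination (f (X.π g) * conj (f' (X.π g))) * X.lamZero_mul_conj lam (X.mem_ker_of_regular hg)

/-- A sum over `K` of a function of `π`. -/
theorem sum_comp (F : L → ℂ) : ∑ g : K, F (X.π g) = (r : ℂ) * ∑ y : L, F y := by
  rw [← Finset.sum_fiberwise_of_maps_to (g := fun g : K => X.π g) (t := Finset.univ)
    (fun _ _ => Finset.mem_univ _), Finset.mul_sum]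
  refine Finset.sum_congr rfl fun y _ => ?_
  obtain ⟨g, rfl⟩ := X.surj y
  rw [Finset.sum_congr rfl fun x hx => congrArg F (Finset.mem_filter.1 hx).2, Finset.sum_const,
    nsmul_eq_mul]
  congr 2
  refine Eq.trans ?_ X.card_ker
  rw [Nat.card_eq_fintype_card, Fintype.card_of_subtype
    (Finset.univ.filter fun x => X.π x = 1) (fun x => by simp)]
  refine Finset.card_bij' (fun x _ => x * g⁻¹) (fun x _ => x * g) ?_ ?_ ?_ ?_ <;>
    intro x hx <;> simp at hx ⊢ <;> simp [hx]

theorem card_eq (X : CentralExt K L r) : Nat.card K = r * Nat.card L := by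
  have h := X.sum_comp fun _ => 1
  simp only [Finset.sum_const, Finset.card_univ, nsmul_eq_mul, mul_one] at h
  rw [← Nat.card_eq_fintype_card, ← Nat.card_eq_fintype_card] at h
  exact_mod_cast h

/-- The twist preserves scalar products. -/
theorem classInner_twist (lam : X.π.ker →* ℂˣ) {f f' : L → ℂ} (hf : VanishSingular r f) :
    classInner (X.twist lam f) (X.twist lam f') = classInner f f' := by
  simp only [classInner, X.twist_mul_conj lam hf]
  rw [X.sum_comp fun y => f y * conj (f' y), X.card_eq]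
  have hr : (r : ℂ) ≠ 0 := Nat.cast_ne_zero.2 X.prime.ne_zero
  push_cast
  field_simp

section Elementary

variable (E : Subgroup K) [Group.IsNilpotent E]

theorem idem_E : X.expR' * X.expR' ≡ X.expR' [MOD Nat.card E] :=
  X.expR'_idem.of_dvd (Subgroup.card_subgroup_dvd_card E)

/-- The `r'`-part on `E`. -/
noncomputable def partHom : E →* E := CharDeep.PartHom.powHom X.expR' (X.idem_E E)

theorem partHom_of_mem {h : E} (hh : h ∈ (X.partHom E).range) : h ^ X.expR' = h ∧ h ^ X.expR = 1 := by
  obtain ⟨a, rfl⟩ := hh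
  rw [partHom, CharDeep.PartHom.powHom_apply]
  constructor
  · rw [← pow_mul]
    exact pow_eq_pow_iff_modEq.2 ((X.idem_E E).of_dvd (orderOf_dvd_natCard a))
  · rw [← pow_mul]
    refine orderOf_dvd_iff_pow_eq_one.1 ?_
    have h1 : orderOf a ∣ X.rPart * X.rest := by
      rw [mul_comm, X.rest_mul_rPart]
      exact (orderOf_dvd_natCard a).trans (Subgroup.card_subgroup_dvd_card E)
    exact h1.trans (mul_dvd_mul (Nat.modEq_zero_iff_dvd.1 X.expR'_zero)
      (Nat.modEq_zero_iff_dvd.1 X.expR_zero))

/-- The elements of `E` with `r`-part in the kernel. -/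
theorem sum_support (F : E → ℂ) (hF : ∀ g : E, (g : K) ^ X.expR ∉ X.π.ker → F g = 0) :
    ∑ g, F g = ∑ z : ↥(X.π.ker.subgroupOf E), ∑ h : ↥(X.partHom E).range, F (z * h) := by
  rw [← Fintype.sum_prod_type' fun (z : ↥(X.π.ker.subgroupOf E)) (h : ↥(X.partHom E).range) =>
    F ((z : E) * h), ← Finset.sum_filter_of_ne (s := (Finset.univ : Finset E))
    (p := fun g : E => (g : K) ^ X.expR ∈ X.π.ker) fun g _ hg => by
      by_contra h; exact hg (hF g h)]
  symm
  refine Finset.sum_bij (fun x _ => (x.1 : E) * x.2) ?_ ?_ ?_ (fun _ _ => rfl)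
  · rintro ⟨z, h⟩ -
    refine Finset.mem_filter.2 ⟨Finset.mem_univ _, ?_⟩
    have hz : ((z : E) : K) ∈ X.π.ker := z.2
    rw [Subgroup.coe_mul, X.mul_pow_expR hz, ← SubgroupClass.coe_pow, (X.partHom_of_mem E h.2).2,
      OneMemClass.coe_one, mul_one]
    exact hz
  · rintro ⟨z, h⟩ - ⟨z', h'⟩ - e
    have key : ∀ (z : ↥(X.π.ker.subgroupOf E)) (h : ↥(X.partHom E).range),
        ((z : E) * h) ^ X.expR' = h := fun z h => by
      have hz : ((z : E) : K) ∈ X.π.ker := z.2
      have hc : Commute (z : E) (h : E) :=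
        Subtype.ext (Subgroup.mem_center_iff.1 (X.central hz) _).symm
      rw [hc.mul_pow, (X.partHom_of_mem E h.2).1,
        show (z : E) ^ X.expR' = 1 from Subtype.ext (X.ker_pow_expR' hz), one_mul]
    have e2 := congrArg (fun x : E => x ^ X.expR') e
    simp only [key] at e2
    obtain rfl : h = h' := Subtype.ext e2
    obtain rfl : z = z' := Subtype.ext (mul_right_cancel e)
    rfl
  · intro g hg
    have hg' : (g : K) ^ X.expR ∈ X.π.ker := (Finset.mem_filter.1 hg).2
    exact ⟨(⟨g ^ X.expR, by simpa [Subgroup.mem_subgroupOf] using hg'⟩, ⟨g ^ X.expR', ⟨g, rfl⟩⟩),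
      Finset.mem_univ _, Subtype.ext (X.pow_expR_mul_pow_expR' g)⟩

/-- The part of the kernel in `E`. -/
def kerHom : ↥(X.π.ker.subgroupOf E) →* X.π.ker where
  toFun z := ⟨((z : E) : K), z.2⟩
  map_one' := rfl
  map_mul' _ _ := rfl

/-- Integrality of the scalar products on an elementary subgroup. -/
theorem twist_inner_int (lam : X.π.ker →* ℂˣ) {f : L → ℂ} (hf : VanishSingular r f)
    (hfg : IsGeneralizedCharacter L f) (χ : IrrCharacter E) :
    ∃ n : ℤ, classInner (fun g : E => X.twist lam f g) (χ : E → ℂ) = n := by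
  set Z0 := X.π.ker.subgroupOf E
  set H := (X.partHom E).range
  set F : E → ℂ := fun g => f (X.π g) with hF
  have hFgc : IsGeneralizedCharacter E F := by
    obtain ⟨a, b, ha, hb, rfl⟩ := hfg
    exact ⟨_, _, Char.IsCharacter.comp ha (X.π.comp E.subtype),
      Char.IsCharacter.comp hb (X.π.comp E.subtype), rfl⟩
  have hval : ∀ (z : Z0) (h : H), f (X.π ((z : E) * h : E)) = F h := fun z h => by
    rw [hF, Subgroup.coe_mul, map_mul, MonoidHom.mem_ker.1 (show ((z : E) : K) ∈ X.π.ker from z.2),
      one_mul]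
  have hoff : ∀ g : E, (g : K) ^ X.expR ∉ X.π.ker → F g = 0 := fun g hg =>
    hf _ (by by_contra h; exact hg (X.mem_ker_of_regular h))
  -- the integers on the part of order prime to `r`
  have hη : ∀ η : IrrCharacter H, ∃ n : ℤ,
      (Nat.card E : ℂ)⁻¹ * (Nat.card Z0 : ℂ) * ∑ h : H, F h * conj ((η : H → ℂ) h) = n := by
    intro η
    obtain ⟨n, hn⟩ := Char.IsGeneralizedCharacter.classInner_int hFgc
      (⟨_, 0, Char.IsCharacter.comp (Char.isCharacter_irr η) (X.partHom E).rangeRestrict,
        Char.isCharacter_zero, (sub_zero _).symm⟩ : IsGeneralizedCharacter E _)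
    refine ⟨n, ?_⟩
    rw [← hn, classInner, X.sum_support E _ (fun g hg => by rw [hoff g hg, zero_mul]), mul_assoc]
    congr 1
    have hpt : ∀ (z : Z0) (h : H),
        F ((z : E) * h) * conj (((η : H → ℂ) ∘ ⇑(X.partHom E).rangeRestrict) ((z : E) * h)) =
          F h * conj ((η : H → ℂ) h) := by
      intro z h
      have hk : ((z : E) : K) ∈ X.π.ker := z.2
      rw [show F ((z : E) * h) = F h from hval z h, Function.comp_apply]
      congr 2
      refine congrArg _ (Subtype.ext ?_)
      show X.partHom E ((z : E) * h) = h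
      rw [map_mul, partHom, CharDeep.PartHom.powHom_apply, CharDeep.PartHom.powHom_apply,
        (X.partHom_of_mem E h.2).1, show (z : E) ^ X.expR' = 1 from Subtype.ext (X.ker_pow_expR' hk),
        one_mul]
    rw [Finset.sum_congr rfl fun z _ => Finset.sum_congr rfl fun h _ => hpt z h, Finset.sum_const,
      Finset.card_univ, nsmul_eq_mul, ← Nat.card_eq_fintype_card]
  have hres := Char.IsCharacter.restrict (Char.isCharacter_irr χ) H
  choose n hn using fun η : IrrCharacter H =>
    Char.IsCharacter.classInner_nat hres (Char.isCharacter_irr η)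
  choose m hm using hη
  have hH : (Nat.card E : ℂ)⁻¹ * (Nat.card Z0 : ℂ) * ∑ h : H, F h * conj ((χ : E → ℂ) h) =
      ((∑ η, (n η : ℤ) * m η : ℤ) : ℂ) := by
    have e := Char.IsClassFunction.eq_sum_irr (Char.IsCharacter.isClassFunction hres)
    push_cast
    have e' : ∀ h : H, F h * conj ((χ : E → ℂ) h) =
        ∑ η : IrrCharacter H, (n η : ℂ) * (F h * conj ((η : H → ℂ) h)) := fun h => by
      rw [show (χ : E → ℂ) (h : E) = _ from congrFun e h]
      simp only [hn, Finset.sum_apply, Pi.smul_apply, smul_eq_mul, map_sum, map_mul, map_natCast,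
        Finset.mul_sum]
      exact Finset.sum_congr rfl fun η _ => by ring
    simp only [e', ← hm, Finset.mul_sum]
    rw [Finset.sum_comm]
    exact Finset.sum_congr rfl fun η _ => Finset.sum_congr rfl fun h _ => by ring
  -- the sum over the kernel
  have hterm : ∀ (z : Z0) (h : H), X.twist lam f ((z : E) * h : E) * conj ((χ : E → ℂ) ((z : E) * h)) =
      ((lam (X.kerHom E z) : ℂ) * conj ((χ : E → ℂ) z / (χ : E → ℂ) 1)) * (F h * conj ((χ : E → ℂ) h)) := by
    intro z h
    have hk : ((z : E) : K) ∈ X.π.ker := z.2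
    have hzc : (z : E) ∈ Subgroup.center E := Subgroup.mem_center_iff.2 fun g =>
      Subtype.ext (Subgroup.mem_center_iff.1 (X.central z.2) g)
    rw [← Subgroup.mem_center_iff.1 hzc (h : E), DegreeTools.apply_mul_center χ hzc, map_mul,
      Subgroup.mem_center_iff.1 hzc (h : E), Subgroup.coe_mul, X.twist_mul lam f hk,
      show X.twist lam f ((h : E) : K) = F h by
        rw [twist, ← SubgroupClass.coe_pow, (X.partHom_of_mem E h.2).2, OneMemClass.coe_one,
          X.lamZero_mem lam (one_mem _), show (⟨(1 : K), one_mem _⟩ : X.π.ker) = 1 from rfl,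
          map_one, Units.val_one, one_mul]]
    show (lam ⟨_, hk⟩ : ℂ) * F h * _ = (lam (⟨_, hk⟩ : X.π.ker) : ℂ) * _ * _
    ring
  set ω : Z0 →* ℂ :=
    { toFun := fun z => (lam (X.kerHom E z) : ℂ) * conj ((χ : E → ℂ) z / (χ : E → ℂ) 1)
      map_one' := by
        have h1 := Char.IsIrrCharacter.apply_one_ne_zero χ.2
        rw [map_one, map_one]
        simp [h1]
      map_mul' := fun a b => by
        have hbc : (b : E) ∈ Subgroup.center E := Subgroup.mem_center_iff.2 fun g =>
          Subtype.ext (Subgroup.mem_center_iff.1 (X.central b.2) g)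
        rw [map_mul, map_mul, Units.val_mul, Subgroup.coe_mul, DegreeTools.apply_mul_center χ hbc]
        simp only [map_mul, map_div₀]
        ring } with hω
  have hkey : classInner (fun g : E => X.twist lam f g) (χ : E → ℂ) =
      (Nat.card E : ℂ)⁻¹ * ((∑ z, ω z) * ∑ h : H, F h * conj ((χ : E → ℂ) h)) := by
    rw [classInner, X.sum_support E _ (fun g hg => by
      rw [twist, show f (X.π g) = 0 from hoff g hg]; simp), Finset.sum_mul_sum]
    congr 1
    exact Finset.sum_congr rfl fun z _ => Finset.sum_congr rfl fun h _ => hterm z h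
  rw [hkey]
  by_cases hω1 : ω = 1
  · refine ⟨∑ η, (n η : ℤ) * m η, ?_⟩
    rw [← hH, hω1]
    simp only [MonoidHom.one_apply, Finset.sum_const, Finset.card_univ, nsmul_eq_mul, mul_one,
      ← Nat.card_eq_fintype_card]
    ring
  · refine ⟨0, ?_⟩
    rw [sum_hom_units_eq_zero ω hω1]
    simp


end Elementary

/-- **The twist of a generalized character is a generalized character.** -/
theorem isGeneralizedCharacter_twist (lam : X.π.ker →* ℂˣ) {f : L → ℂ} (hf : VanishSingular r f)
    (hfg : IsGeneralizedCharacter L f) : IsGeneralizedCharacter K (X.twist lam f) := by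
  have hc := X.isClassFunction_twist lam (Char.IsGeneralizedCharacter.isClassFunction hfg)
  refine CharDeep.Brauer.isGeneralizedCharacter_of_elementary hc fun p hp E hE => ?_
  haveI := CharDeep.PartHom.isNilpotent_of_isElementary hp hE
  refine Char.isGeneralizedCharacter_iff.2 ⟨fun a b => ?_, fun χ hχ => ?_⟩
  · simpa using hc (a : K) (b : K)
  · exact X.twist_inner_int E lam hf hfg ⟨χ, hχ⟩

end CentralExt

end CfsgLib.Walter.Field
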